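import Mathlib
import Groth.Agent.DetDegLib.Wedge

/-!
# The determinant of a stably free module is trivial
-/

set_option autoImplicit false

universe u

namespace StabFreeDetLib

variable {B : Type u} [CommRing B] {M : Type u} [AddCommGroup M] [Module B M] {r k : ℕ}
  (Ψ : ((Fin r → B) × M) ≃ₗ[B] (Fin r ⊕ Fin k → B))

/-- The family completing `v` by the standard vectors. -/
noncomputable def completeFam (v : Fin k → M) : Fin r ⊕ Fin k → (Fin r ⊕ Fin k → B) :=
  Sum.elim (fun i => Ψ (Pi.single i 1, 0)) fun i => Ψ (0, v i)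

theorem completeFam_update [DecidableEq (Fin k)] (v : Fin k → M) (i : Fin k) (x : M) :
    completeFam Ψ (Function.update v i x) =
      Function.update (completeFam Ψ v) (Sum.inr i) (Ψ (0, x)) := by
  funext j
  cases j with
  | inl l => simp [completeFam]
  | inr l => rcases eq_or_ne l i with rfl | h <;> simp [completeFam, *]

/-- The determinant as an alternating form on `M`. -/
noncomputable def detForm : M [⋀^Fin k]→ₗ[B] B where
  toFun v := (Pi.basisFun B (Fin r ⊕ Fin k)).det (completeFam Ψ v)
  map_update_add' {inst} v i x y := by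
    rw [completeFam_update, completeFam_update, completeFam_update,
      show ((0 : Fin r → B), x + y) = (0, x) + (0, y) by simp, map_add, AlternatingMap.map_update_add]
  map_update_smul' {inst} v i c x := by
    rw [completeFam_update, completeFam_update,
      show ((0 : Fin r → B), c • x) = c • ((0 : Fin r → B), x) by simp, map_smul, AlternatingMap.map_update_smul]
  map_eq_zero_of_eq' v i j h hij := by
    refine (Pi.basisFun B (Fin r ⊕ Fin k)).det.map_eq_zero_of_eq _ (i := Sum.inr i) (j := Sum.inr j) ?_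
      (Sum.inr_injective.ne hij)
    simp [completeFam, h]

/-- The induced map on the top exterior power. -/
noncomputable def detMap : ↥(⋀[B]^k M) →ₗ[B] B := exteriorPower.alternatingMapLinearEquiv (detForm Ψ)

theorem detMap_ι (v : Fin k → M) :
    detMap Ψ (exteriorPower.ιMulti B k v) = (Pi.basisFun B (Fin r ⊕ Fin k)).det (completeFam Ψ v) :=
  exteriorPower.alternatingMapLinearEquiv_apply_ιMulti _ _

theorem det_not_mem (m : Ideal B) [hm : m.IsMaximal] :
    ∃ v : Fin k → M, detMap Ψ (exteriorPower.ιMulti B k v) ∉ m := by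
  classical
  let _ : Field (B ⧸ m) := Ideal.Quotient.field m
  let κ := B ⧸ m
  let red : (Fin r ⊕ Fin k → B) → (Fin r ⊕ Fin k → κ) := fun y i => Ideal.Quotient.mk m (y i)
  let P : (Fin r ⊕ Fin k → B) →ₗ[B] (Fin r → B) :=
    (LinearMap.fst B (Fin r → B) M).comp Ψ.symm.toLinearMap
  let A : Matrix (Fin r) (Fin r ⊕ Fin k) B := LinearMap.toMatrix' P
  let P' : (Fin r ⊕ Fin k → κ) →ₗ[κ] (Fin r → κ) := Matrix.toLin' (A.map (Ideal.Quotient.mk m))
  have hP' : ∀ y, P' (red y) = fun i => Ideal.Quotient.mk m (P y i) := fun y => by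
    funext i
    rw [← LinearMap.toMatrix'_mulVec P y]
    simp only [P', A, red, Matrix.toLin'_apply, Matrix.mulVec, dotProduct, Matrix.map_apply, map_sum, map_mul]
  have hPe : ∀ a x, P (Ψ (a, x)) = a := fun a x => by simp [P]
  have hsurj : Function.Surjective P' := fun z => by
    choose a ha using fun i => Ideal.Quotient.mk_surjective (z i)
    exact ⟨red (Ψ (a, 0)), by rw [hP', hPe]; exact funext ha⟩
  have hker : ∀ z, P' z = 0 → ∃ x, red (Ψ (0, x)) = z := fun z hz => by
    choose y hy using fun i => Ideal.Quotient.mk_surjective (z i)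
    have hy' : red y = z := funext hy
    refine ⟨(Ψ.symm y).2, ?_⟩
    have hy2 : y = Ψ ((Ψ.symm y).1, 0) + Ψ (0, (Ψ.symm y).2) := by
      rw [← map_add]; simp
    have h1 : red (Ψ ((Ψ.symm y).1, 0)) = 0 := by
      have h2 : ∀ i, (Ψ.symm y).1 i ∈ m := fun i => by
        have := congrFun ((hP' y).symm.trans (hy' ▸ hz)) i
        exact Ideal.Quotient.eq_zero_iff_mem.1 this
      funext j
      rw [show (Ψ.symm y).1 = ∑ i, (Ψ.symm y).1 i • (Pi.single i 1 : Fin r → B) by
        funext l; simp [Pi.single_apply]]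
      rw [show ((∑ i, (Ψ.symm y).1 i • (Pi.single i 1 : Fin r → B)), (0 : M)) =
        ∑ i, (Ψ.symm y).1 i • ((Pi.single i 1 : Fin r → B), (0 : M)) by
          ext <;> simp [Prod.fst_sum, Prod.snd_sum]]
      simp only [red, map_sum, map_smul, Finset.sum_apply, Pi.smul_apply, smul_eq_mul, map_mul, Pi.zero_apply]
      exact Finset.sum_eq_zero fun i _ => by rw [Ideal.Quotient.eq_zero_iff_mem.2 (h2 i), zero_mul]
    have h3 : red y = red (Ψ ((Ψ.symm y).1, 0)) + red (Ψ (0, (Ψ.symm y).2)) := by
      funext j
      conv_lhs => rw [hy2]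
      simp [red]
    rw [← hy', h3, h1, zero_add]
  have hdim : Module.finrank κ (LinearMap.ker P') = k := by
    have h1 := LinearMap.finrank_range_add_finrank_ker P'
    rw [LinearMap.range_eq_top.2 hsurj, finrank_top, Module.finrank_pi, Module.finrank_pi,
      Fintype.card_sum, Fintype.card_fin, Fintype.card_fin] at h1
    omega
  let b := Module.finBasisOfFinrankEq κ (LinearMap.ker P') hdim
  choose v hv using fun i => hker (b i : Fin r ⊕ Fin k → κ) (b i).2
  refine ⟨v, fun hmem => ?_⟩
  rw [detMap_ι, Module.Basis.det_apply, ← Ideal.Quotient.eq_zero_iff_mem, RingHom.map_det] at hmem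
  obtain ⟨c, hc0, hc⟩ := Matrix.exists_mulVec_eq_zero_iff.2 hmem
  have hcol : ∀ l j, ((Ideal.Quotient.mk m).mapMatrix
      ((Pi.basisFun B (Fin r ⊕ Fin k)).toMatrix (completeFam Ψ v))) l j = red (completeFam Ψ v j) l :=
    fun l j => by simp [red, Module.Basis.toMatrix_apply]
  have hsum : ∑ j, c j • red (completeFam Ψ v j) = 0 := by
    funext l
    have := congrFun hc l
    simp only [Matrix.mulVec, dotProduct, hcol] at this
    simpa [Finset.sum_apply, mul_comm] using this
  have hPred : ∀ a x i, P' (red (Ψ (a, x))) i = Ideal.Quotient.mk m (a i) := fun a x i => by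
    rw [hP', hPe]
  have hcl : ∀ i, c (Sum.inl i) = 0 := fun i => by
    have h1 := congrFun (congrArg P' hsum) i
    simp only [map_sum, map_smul, hP', Fintype.sum_sum_type, completeFam, Sum.elim_inl, Sum.elim_inr, hPe,
      Finset.sum_apply, Pi.add_apply, Pi.smul_apply, map_zero, Pi.zero_apply] at h1
    erw [map_add, map_sum, map_sum, Pi.add_apply, Finset.sum_apply, Finset.sum_apply,
      Finset.sum_congr rfl fun x _ => congrFun (map_smul P' (c (Sum.inl x)) (red (Ψ (Pi.single x 1, 0)))) i,
      Finset.sum_congr rfl fun x _ => congrFun (map_smul P' (c (Sum.inr x)) (red (Ψ (0, v x)))) i] at h1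
    simp only [Pi.smul_apply, smul_eq_mul, hPred] at h1
    simpa [Pi.single_apply, apply_ite (Ideal.Quotient.mk m)] using h1
  have hcr : ∀ i, c (Sum.inr i) = 0 := by
    refine Fintype.linearIndependent_iff.1 b.linearIndependent (fun i => c (Sum.inr i)) ?_
    apply Subtype.ext
    simp only [Submodule.coe_sum, Submodule.coe_smul, Submodule.coe_zero]
    have h2 := hsum
    simp only [Fintype.sum_sum_type, hcl, zero_smul, Finset.sum_const_zero, zero_add, completeFam,
      Sum.elim_inr, hv] at h2
    exact h2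
  exact hc0 (funext fun j => j.casesOn hcl hcr)

/-- Cramer's rule: `det • y` lies in the span of the family. -/
theorem det_smul_mem {ι : Type*} [Fintype ι] [DecidableEq ι] (w : ι → ι → B) (y : ι → B) :
    ∃ c : ι → B, (Pi.basisFun B ι).det w • y = ∑ j, c j • w j := by
  refine ⟨Matrix.mulVec ((Pi.basisFun B ι).toMatrix w).adjugate y, ?_⟩
  have h := Matrix.mulVec_mulVec y ((Pi.basisFun B ι).toMatrix w) ((Pi.basisFun B ι).toMatrix w).adjugate
  rw [Matrix.mul_adjugate, Matrix.smul_mulVec, Matrix.one_mulVec] at h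
  rw [Module.Basis.det_apply, ← h]
  funext i
  simp [Matrix.mulVec, dotProduct, Module.Basis.toMatrix_apply, mul_comm]

theorem detMap_injective : Function.Injective (detMap Ψ) := by
  classical
  rw [injective_iff_map_eq_zero]
  intro x hx
  by_contra hx0
  have hne : (Submodule.span B {x}).annihilator ≠ ⊤ := fun h => hx0 (by
    have h1 := Submodule.mem_annihilator.1 (h ▸ Submodule.mem_top : (1 : B) ∈ (Submodule.span B {x}).annihilator) x
      (Submodule.mem_span_singleton_self x)
    rwa [one_smul] at h1)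
  obtain ⟨m, hm, hle⟩ := Ideal.exists_le_maximal _ hne
  obtain ⟨w, hw⟩ := det_not_mem Ψ m
  set D := detMap Ψ (exteriorPower.ιMulti B k w) with hD
  have hcram : ∀ y : M, ∃ c : Fin k → B, D • y = ∑ j, c j • w j := fun y => by
    obtain ⟨c, hc⟩ := det_smul_mem (completeFam Ψ w) (Ψ (0, y))
    refine ⟨fun j => c (Sum.inr j), ?_⟩
    have h := congrArg (fun z => (Ψ.symm z).2) hc
    simp only [map_smul, map_sum, LinearEquiv.symm_apply_apply, Prod.smul_snd, Prod.snd_sum,
      Fintype.sum_sum_type, Prod.snd_add, completeFam, Sum.elim_inl, Sum.elim_inr, smul_zero,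
      Finset.sum_const_zero, zero_add] at h
    rw [hD, detMap_ι]
    simp only [map_add, map_sum, map_smul, LinearEquiv.symm_apply_apply, Prod.smul_snd, Prod.snd_sum,
      Prod.snd_add, smul_zero, Finset.sum_const_zero, zero_add] at h
    exact h
  have key : ∀ z : ↥(⋀[B]^k M), ∃ a : B, D ^ k • z = a • exteriorPower.ιMulti B k w := fun z => by
    have hz : z ∈ Submodule.span B (Set.range (exteriorPower.ιMulti B k (M := M))) :=
      exteriorPower.ιMulti_span B k M ▸ Submodule.mem_top
    induction hz using Submodule.span_induction with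
    | mem z hz =>
      obtain ⟨v, rfl⟩ := hz
      choose c hc using fun i => hcram (v i)
      let f : (Fin k → B) [⋀^Fin k]→ₗ[B] ↥(⋀[B]^k M) :=
        (exteriorPower.ιMulti B k).compLinearMap (Fintype.linearCombination B w)
      have h1 := DetDegLib.alt_eq (Pi.basisFun B (Fin k)) f c
      have h2 : (fun i => Fintype.linearCombination B w (c i)) = fun i => D • v i :=
        funext fun i => (Fintype.linearCombination_apply B w (c i)).trans (hc i).symm
      have h3 : (fun i => Fintype.linearCombination B w (Pi.basisFun B (Fin k) i)) = w :=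
        funext fun i => by simp
      refine ⟨(Pi.basisFun B (Fin k)).det c, ?_⟩
      simp only [f, AlternatingMap.coe_compLinearMap, Function.comp_def, h2, h3] at h1
      rw [← h1, ← AlternatingMap.coe_multilinearMap, MultilinearMap.map_smul_univ]
      simp
    | zero => exact ⟨0, by simp⟩
    | add z z' _ _ hz hz' =>
      obtain ⟨a, ha⟩ := hz
      obtain ⟨a', ha'⟩ := hz'
      exact ⟨a + a', by rw [smul_add, ha, ha', add_smul]⟩
    | smul c z _ hz =>
      obtain ⟨a, ha⟩ := hz
      exact ⟨c * a, by rw [smul_comm, ha, smul_smul]⟩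
  obtain ⟨a, ha⟩ := key x
  have haD : a * D = 0 := by
    have := congrArg (detMap Ψ) ha
    rw [map_smul, map_smul, hx, smul_zero, ← hD, smul_eq_mul] at this
    exact this.symm
  have : D ^ (k + 1) ∈ (Submodule.span B {x}).annihilator := by
    rw [Submodule.mem_annihilator_span_singleton, pow_succ', mul_smul, ha, smul_smul, mul_comm, haD, zero_smul]
  exact hw (hm.isPrime.mem_of_pow_mem _ (hle this))

theorem detMap_surjective : Function.Surjective (detMap Ψ) := by
  rw [← LinearMap.range_eq_top]
  by_contra hne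
  obtain ⟨m, hm, hle⟩ := Ideal.exists_le_maximal _ hne
  obtain ⟨w, hw⟩ := det_not_mem Ψ m
  exact hw (hle ⟨_, rfl⟩)

/-- `⋀^k M ≅ B` when `B^r × M ≅ B^(r+k)`. -/
noncomputable def detEquiv : ↥(⋀[B]^k M) ≃ₗ[B] B :=
  LinearEquiv.ofBijective (detMap Ψ) ⟨detMap_injective Ψ, detMap_surjective Ψ⟩

end StabFreeDetLib
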