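import Mathlib
import Groth.Agent.StabFreeDetLib.Det
import Groth.Agent.S5802

/-!
# The canonical module of a smooth complete intersection in affine space
-/

set_option autoImplicit false

universe u

namespace StabFreeDetLib

open TensorProduct

section

variable {P : Type u} [CommRing P] (J : Ideal P) {r : ℕ} (F : Fin r → P)

/-- The classes of the generators as a map to `J/J²`. -/
noncomputable def classMap (hF : ∀ i, F i ∈ J) : (Fin r → P) →ₗ[P] J.Cotangent :=
  J.toCotangent.comp (Fintype.linearCombination P fun i => (⟨F i, hF i⟩ : J))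

theorem classMap_surjective (hJ : J = Ideal.span (Set.range F)) (hF : ∀ i, F i ∈ J) :
    Function.Surjective (classMap J F hF) := by
  intro c
  obtain ⟨⟨x, hx⟩, rfl⟩ := J.toCotangent_surjective c
  obtain ⟨a, ha⟩ := (Ideal.mem_span_range_iff_exists_fun).1 (hJ ▸ hx)
  refine ⟨a, ?_⟩
  simp only [classMap, LinearMap.comp_apply]
  congr 1
  ext
  simp [Fintype.linearCombination_apply, ha]

theorem ker_classMap (hJ : J = Ideal.span (Set.range F)) (hF : ∀ i, F i ∈ J)
    (hreg : CAlgX.IsQuasiRegular F) :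
    LinearMap.ker (classMap J F hF) = Submodule.pi Set.univ fun _ : Fin r => J := by
  classical
  ext a
  rw [LinearMap.mem_ker, classMap, LinearMap.comp_apply, Ideal.toCotangent_eq_zero, Submodule.mem_pi]
  simp only [Set.mem_univ, forall_true_left, Fintype.linearCombination_apply, Submodule.coe_sum,
    Submodule.coe_smul, smul_eq_mul]
  refine ⟨fun h i => ?_, fun h => Ideal.sum_mem _ fun i _ => ?_⟩
  · rw [hJ] at h ⊢
    have h1 := hreg 1 (∑ j, MvPolynomial.C (a j) * MvPolynomial.X j)
      (MvPolynomial.IsHomogeneous.sum _ _ _ fun j _ => MvPolynomial.isHomogeneous_C_mul_X _ _)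
      (by simpa [map_sum] using h) (Finsupp.single i 1)
    simpa [MvPolynomial.coeff_sum, MvPolynomial.coeff_C_mul, MvPolynomial.coeff_X, Finsupp.single_left_inj] using h1
  · rw [pow_two]
    exact Ideal.mul_mem_mul (h i) (hF i)

/-- The coefficientwise reduction map. -/
noncomputable def redMap : (Fin r → P) →ₗ[P] (Fin r → P ⧸ J) :=
  LinearMap.pi fun i => J.mkQ.comp (LinearMap.proj i)

theorem nonempty_cotangent_equiv (hJ : J = Ideal.span (Set.range F)) (hreg : CAlgX.IsQuasiRegular F) :
    Nonempty ((Fin r → P ⧸ J) ≃ₗ[P] J.Cotangent) := by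
  have hF : ∀ i, F i ∈ J := fun i => hJ ▸ Ideal.subset_span ⟨i, rfl⟩
  have hker : LinearMap.ker (redMap J (r := r)) = LinearMap.ker (classMap J F hF) := by
    rw [ker_classMap J F hJ hF hreg]
    ext a
    simp [redMap, funext_iff, Submodule.mem_pi, Ideal.Quotient.eq_zero_iff_mem]
  have hred : Function.Surjective (redMap J (r := r)) := fun z => by
    choose a ha using fun i => Ideal.Quotient.mk_surjective (z i)
    exact ⟨a, funext ha⟩
  exact ⟨((redMap J).quotKerEquivOfSurjective hred).symm.trans ((Submodule.quotEquivOfEq _ _ hker).trans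
    ((classMap J F hF).quotKerEquivOfSurjective (classMap_surjective J F hJ hF)))⟩

end

theorem nonempty_equiv_of_card_one {B : Type u} [CommRing B] {V : Type u} [AddCommGroup V] [Module B V]
    {ι : Type*} (b : Module.Basis ι B V) (h : Nat.card ι = 1) : Nonempty (V ≃ₗ[B] B) := by
  have : Finite ι := Nat.finite_of_card_ne_zero (by omega)
  let e : ι ≃ Unit := (Finite.equivFinOfCardEq h).trans (finOneEquiv)
  exact ⟨(b.reindex e).equiv (Module.Basis.singleton Unit B) (Equiv.refl _)⟩

theorem nonempty_canonical_equiv (A : Type u) [CommRing A] (n r : ℕ) (hrn : r ≤ n)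
    (F : Fin r → MvPolynomial (Fin n) A)
    (hreg : RingTheory.Sequence.IsWeaklyRegular (MvPolynomial (Fin n) A) (List.ofFn F))
    (I : Ideal (MvPolynomial (Fin n) A)) (hI : I = Ideal.span (Set.range F))
    [Algebra.FormallySmooth A (MvPolynomial (Fin n) A ⧸ I)] :
    Nonempty ((Module.Dual (MvPolynomial (Fin n) A ⧸ I) (⋀[MvPolynomial (Fin n) A ⧸ I]^r I.Cotangent)) ⊗[MvPolynomial (Fin n) A ⧸ I]
        ((MvPolynomial (Fin n) A ⧸ I) ⊗[MvPolynomial (Fin n) A] (⋀[MvPolynomial (Fin n) A]^n (Ω[MvPolynomial (Fin n) A⁄A])))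
      ≃ₗ[MvPolynomial (Fin n) A ⧸ I] (⋀[MvPolynomial (Fin n) A ⧸ I]^(n - r) (Ω[(MvPolynomial (Fin n) A ⧸ I)⁄A]))) := by
  classical
  let P := MvPolynomial (Fin n) A
  let B := P ⧸ I
  have hqr : CAlgX.IsQuasiRegular F := Groth.Agent.S5802.result P r F hreg
  have hsurj : Function.Surjective (algebraMap P B) := Ideal.Quotient.mk_surjective
  obtain ⟨e1⟩ := nonempty_cotangent_equiv I F hI hqr
  let e1' := e1.extendScalarsOfSurjective hsurj
  -- the left side is free of rank one
  have hfree1 : Nonempty (↥(⋀[B]^r I.Cotangent) ≃ₗ[B] B) :=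
    nonempty_equiv_of_card_one (((Pi.basisFun B (Fin r)).map e1').exteriorPower r)
      (by rw [Set.powersetCard.card, Nat.card_fin, Nat.choose_self])
  obtain ⟨f1⟩ := hfree1
  obtain ⟨f2⟩ : Nonempty ((B ⊗[P] ↥(⋀[P]^n (Ω[P⁄A]))) ≃ₗ[B] B) :=
    nonempty_equiv_of_card_one (Algebra.TensorProduct.basis B ((KaehlerDifferential.mvPolynomialBasis A (Fin n)).exteriorPower n))
      (by rw [Set.powersetCard.card, Nat.card_fin, Nat.choose_self])
  -- the split conormal sequence
  let K := RingHom.ker (algebraMap P B)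
  have hK : K = Ideal.span (Set.range F) := (Ideal.mk_ker (I := I)).trans hI
  obtain ⟨l, hl⟩ := (Algebra.FormallySmooth.iff_split_injection (R := A) hsurj).1 inferInstance
  let e := ((KaehlerDifferential.exact_kerCotangentToTensor_mapBaseChange A P B hsurj).splitInjectiveEquiv
    (g := (KaehlerDifferential.mapBaseChange A P B).restrictScalars P)
    (KaehlerDifferential.mapBaseChange_surjective A P B hsurj) ⟨l, hl⟩).1
  obtain ⟨e2⟩ := nonempty_cotangent_equiv K F hK hqr
  let e3 : (Fin r → P ⧸ K) ≃ₗ[P] (Fin r → B) :=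
    LinearEquiv.piCongrRight fun _ => Submodule.quotEquivOfEq K I Ideal.mk_ker
  let Φ : ((Fin r → B) × Ω[B⁄A]) ≃ₗ[P] (B ⊗[P] Ω[P⁄A]) :=
    ((e3.symm.trans e2).prodCongr (LinearEquiv.refl P _)).trans e.symm
  let Ψ : ((Fin r → B) × Ω[B⁄A]) ≃ₗ[B] (Fin r ⊕ Fin (n - r) → B) :=
    (Φ.extendScalarsOfSurjective hsurj).trans
      (((Algebra.TensorProduct.basis B (KaehlerDifferential.mvPolynomialBasis A (Fin n))).reindex
        ((finCongr (by omega : n = r + (n - r))).trans finSumFinEquiv.symm)).equivFun)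
  exact ⟨((TensorProduct.congr (f1.dualMap.symm.trans (LinearMap.ringLmapEquivSelf B B B)) f2).trans
    (TensorProduct.lid B B)).trans (detEquiv Ψ).symm⟩

end StabFreeDetLib
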